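import Groth.Prelude.Def_LieS
import Groth.Prelude.Def_Red

/-!
# The Lie algebra of a diagonalisable group

Points of `D(M) = Spec R[M]` with values in the dual numbers over `Spec B`, read as algebra maps
`R[M] → B[ε]`.
-/

universe u

open CategoryTheory MonObj AlgebraicGeometry

namespace GrothLib.LieDiag

variable (R : Type u) [CommRing R] (M : Type) [AddCommGroup M]
variable (B : Type u) [CommRing B] [Algebra R B]

/-- The point `Spec B` over `Spec R` in the two spellings. -/
noncomputable def ptIso :
    LieS.pt B (Spec.map (CommRingCat.ofHom (algebraMap R B))) ≅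
      (Spec (CommRingCat.of B)).asOver (Spec (CommRingCat.of R)) :=
  Over.isoMk (Iso.refl (Spec (CommRingCat.of B))) (by
    change 𝟙 _ ≫ Spec.map _ = Spec.map _
    rw [Category.id_comp])

/-- Dual number valued points as algebra maps. -/
noncomputable def ptsEquiv :
    (LieS.dpt B (Spec.map (CommRingCat.ofHom (algebraMap R B))) ⟶ Red.diag R M) ≃*
      WithConv (MonoidAlgebra R (Multiplicative M) →ₐ[R] DualNumber B) :=
  MulEquiv.trans
    { toFun := fun v => (LieS.dptIso B).inv ≫ v
      invFun := fun w => (LieS.dptIso B).hom ≫ w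
      left_inv := fun v => Iso.hom_inv_id_assoc _ v
      right_inv := fun w => Iso.inv_hom_id_assoc _ w
      map_mul' := fun v w => MonObj.comp_mul _ v w }
    Spec.mapMulEquiv.symm

lemma ptsEquiv_apply (v : LieS.dpt B (Spec.map (CommRingCat.ofHom (algebraMap R B))) ⟶ Red.diag R M) :
    ptsEquiv R M B v = Spec.mapMulEquiv.symm ((LieS.dptIso B).inv ≫ v) := rfl

lemma spec_left {S T : Type u} [CommRing S] [CommRing T] [Bialgebra R S] [Algebra R T]
    (φ : WithConv (S →ₐ[R] T)) :
    (Spec.mapMulEquiv φ).left = Spec.map (CommRingCat.ofHom φ.ofConv.toRingHom) := rfl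

lemma spec_left' {S T : Type u} [CommRing S] [CommRing T] [Bialgebra R S] [Algebra R T]
    {X : Over (Spec (CommRingCat.of R))} (j : X ⟶ (Spec (CommRingCat.of T)).asOver (Spec (CommRingCat.of R)))
    (φ : WithConv (S →ₐ[R] T)) :
    (j ≫ Spec.mapMulEquiv φ).left = j.left ≫ Spec.map (CommRingCat.ofHom φ.ofConv.toRingHom) := rfl

lemma dptIso_left :
    (LieS.dptIso (R := R) B).hom.left = 𝟙 (Spec (CommRingCat.of (DualNumber B))) := rfl

lemma ptIso_left : (ptIso R B).hom.left = 𝟙 (Spec (CommRingCat.of B)) := rfl

lemma left_eq (v : LieS.dpt B (Spec.map (CommRingCat.ofHom (algebraMap R B))) ⟶ Red.diag R M) :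
    v.left = Spec.map (CommRingCat.ofHom (ptsEquiv R M B v).ofConv.toRingHom) := by
  have h : (LieS.dptIso (R := R) B).hom ≫ Spec.mapMulEquiv (ptsEquiv R M B v) = v := by
    rw [ptsEquiv_apply, MulEquiv.apply_symm_apply, Iso.hom_inv_id_assoc]
  have h2 := spec_left' R (LieS.dptIso (R := R) B).hom (ptsEquiv R M B v)
  rw [h, dptIso_left] at h2
  exact h2.trans (Category.id_comp _)

lemma one_left :
    (1 : LieS.pt B (Spec.map (CommRingCat.ofHom (algebraMap R B))) ⟶ Red.diag R M).left =
      Spec.map (CommRingCat.ofHom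
        ((1 : WithConv (MonoidAlgebra R (Multiplicative M) →ₐ[R] B))).ofConv.toRingHom) := by
  have h : (ptIso R B).hom ≫ Spec.mapMulEquiv (1 : WithConv (MonoidAlgebra R (Multiplicative M) →ₐ[R] B)) =
      (1 : LieS.pt B (Spec.map (CommRingCat.ofHom (algebraMap R B))) ⟶ Red.diag R M) := by
    rw [map_one]; exact MonObj.comp_one _
  have h2 := spec_left' R (ptIso R B).hom
    (1 : WithConv (MonoidAlgebra R (Multiplicative M) →ₐ[R] B))
  rw [h, ptIso_left] at h2
  exact h2.trans (Category.id_comp _)

lemma single_inj_ext {C : Type u} [CommRing C] [Algebra R C]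
    (f g : MonoidAlgebra R (Multiplicative M) →ₐ[R] C)
    (h : ∀ m : M, f (MonoidAlgebra.single (Multiplicative.ofAdd m) 1) =
      g (MonoidAlgebra.single (Multiplicative.ofAdd m) 1)) : f = g := by
  refine MonoidAlgebra.algHom_ext (fun x => h (Multiplicative.toAdd x)) ?_
  apply AlgHom.ext
  intro r
  have : (MonoidAlgebra.single (1 : Multiplicative M) r : MonoidAlgebra R (Multiplicative M)) =
      algebraMap R _ r := by simp
  simp only [AlgHom.comp_apply]
  change f (MonoidAlgebra.single (1 : Multiplicative M) r) = g (MonoidAlgebra.single 1 r)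
  rw [this, AlgHom.commutes, AlgHom.commutes]

lemma convOne_single {C : Type u} [CommRing C] [Algebra R C] (m : M) :
    (1 : WithConv (MonoidAlgebra R (Multiplicative M) →ₐ[R] C)).ofConv
      (MonoidAlgebra.single (Multiplicative.ofAdd m) 1) = 1 := by
  simp [AlgHom.convOne_def]

lemma convMul_single {C : Type u} [CommRing C] [Algebra R C]
    (f g : WithConv (MonoidAlgebra R (Multiplicative M) →ₐ[R] C)) (m : M) :
    (f * g).ofConv (MonoidAlgebra.single (Multiplicative.ofAdd m) 1) =
      f.ofConv (MonoidAlgebra.single (Multiplicative.ofAdd m) 1) *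
        g.ofConv (MonoidAlgebra.single (Multiplicative.ofAdd m) 1) := by
  simp [AlgHom.convMul_def]

lemma mem_iff (v : LieS.dpt B (Spec.map (CommRingCat.ofHom (algebraMap R B))) ⟶ Red.diag R M) :
    v ∈ LieS.LieR (Red.diag R M) B ↔
      ∀ m : M, TrivSqZeroExt.fst ((ptsEquiv R M B v).ofConv
        (MonoidAlgebra.single (Multiplicative.ofAdd m) 1)) = 1 := by
  rw [LieS.mem_Lie_iff]
  have hl : (LieS.zeroSec B (Spec.map (CommRingCat.ofHom (algebraMap R B))) ≫ v).left =
      Spec.map (CommRingCat.ofHom
        ((TrivSqZeroExt.fstHom R B B).comp (ptsEquiv R M B v).ofConv).toRingHom) := by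
    rw [Over.comp_left, left_eq R M B v]
    change Spec.map _ ≫ Spec.map _ = _
    rw [LieS.specMap_comp]
    rfl
  constructor
  · intro h m
    have h2 := congrArg (fun q => q.left) h
    rw [hl, one_left] at h2
    have h3 := congrArg CommRingCat.Hom.hom (Spec.map_injective h2)
    have h4 := RingHom.congr_fun h3 (MonoidAlgebra.single (Multiplicative.ofAdd m) 1)
    exact h4.trans (convOne_single R M m)
  · intro h
    apply Over.OverMorphism.ext
    rw [hl, one_left]
    congr 3
    apply single_inj_ext
    intro m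
    rw [convOne_single]
    exact h m

/-- The character `m ↦ 1 + h(m)ε`. -/
noncomputable def expHom (h : M →+ B) : Multiplicative M →* DualNumber B where
  toFun m := TrivSqZeroExt.inl 1 + TrivSqZeroExt.inr (h (Multiplicative.toAdd m))
  map_one' := by simp
  map_mul' x y := by
    ext <;> simp [add_comm]

lemma left_smul (b : B) (v : LieS.LieR (Red.diag R M) B) (m : M) :
    (ptsEquiv R M B (b • v).1).ofConv (MonoidAlgebra.single (Multiplicative.ofAdd m) 1) =
      LieS.scaleHom b ((ptsEquiv R M B v.1).ofConv
        (MonoidAlgebra.single (Multiplicative.ofAdd m) 1)) := by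
  have h : (b • v).1.left = Spec.map (CommRingCat.ofHom
      ((LieS.scaleHom b).comp (ptsEquiv R M B v.1).ofConv.toRingHom)) := by
    rw [LieS.smul_val, Over.comp_left, left_eq R M B v.1]
    change Spec.map _ ≫ Spec.map _ = _
    rw [LieS.specMap_comp]
  rw [left_eq] at h
  have h3 := congrArg CommRingCat.Hom.hom (Spec.map_injective h)
  exact RingHom.congr_fun h3 _

/-- `Lie(D(M))(B) ≅ Hom(M, B)`. -/
noncomputable def lieEquiv : LieS.LieR (Red.diag R M) B ≃* Multiplicative (M →+ B) where
  toFun v := Multiplicative.ofAdd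
    { toFun := fun m => TrivSqZeroExt.snd ((ptsEquiv R M B v.1).ofConv
        (MonoidAlgebra.single (Multiplicative.ofAdd m) 1))
      map_zero' := by
        have : MonoidAlgebra.single (Multiplicative.ofAdd (0 : M)) (1 : R) = 1 := rfl
        rw [this, map_one, TrivSqZeroExt.snd_one]
      map_add' := fun x y => by
        have : MonoidAlgebra.single (Multiplicative.ofAdd (x + y)) (1 : R) =
            MonoidAlgebra.single (Multiplicative.ofAdd x) 1 *
              MonoidAlgebra.single (Multiplicative.ofAdd y) 1 := by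
          simp
        rw [this, map_mul, DualNumber.snd_mul]
        rw [(mem_iff R M B v.1).1 v.2 x, (mem_iff R M B v.1).1 v.2 y]
        ring }
  invFun h := ⟨(ptsEquiv R M B).symm
      (WithConv.toConv (MonoidAlgebra.lift R (DualNumber B) (Multiplicative M)
        (expHom M B (Multiplicative.toAdd h)))), by
      rw [mem_iff]
      intro m
      simp [expHom]⟩
  left_inv v := by
    apply Subtype.ext
    apply (ptsEquiv R M B).injective
    rw [MulEquiv.apply_symm_apply]
    apply WithConv.ofConv_injective
    apply single_inj_ext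
    intro m
    ext
    · simp [expHom, (mem_iff R M B v.1).1 v.2 m]
    · simp [expHom]
  right_inv h := by
    apply Multiplicative.toAdd.injective
    ext m
    simp [expHom]
  map_mul' v w := by
    apply Multiplicative.toAdd.injective
    ext m
    simp only [toAdd_ofAdd, toAdd_mul, AddMonoidHom.coe_mk, ZeroHom.coe_mk, AddMonoidHom.add_apply,
      Subgroup.coe_mul, map_mul, convMul_single, DualNumber.snd_mul]
    rw [(mem_iff R M B v.1).1 v.2 m, (mem_iff R M B w.1).1 w.2 m]
    ring

lemma lieEquiv_apply (v : LieS.LieR (Red.diag R M) B) (m : M) :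
    Multiplicative.toAdd (lieEquiv R M B v) m =
      TrivSqZeroExt.snd ((ptsEquiv R M B v.1).ofConv
        (MonoidAlgebra.single (Multiplicative.ofAdd m) 1)) := rfl

lemma lieEquiv_smul (b : B) (v : LieS.LieR (Red.diag R M) B) :
    lieEquiv R M B (b • v) =
      Multiplicative.ofAdd (b • Multiplicative.toAdd (lieEquiv R M B v)) := by
  apply Multiplicative.toAdd.injective
  ext m
  rw [lieEquiv_apply, left_smul, toAdd_ofAdd, AddMonoidHom.smul_apply, lieEquiv_apply]
  simp [LieS.scaleHom, TrivSqZeroExt.algebraMap_eq_inl', smul_eq_mul]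
  ring

end GrothLib.LieDiag
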